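import Cfsg.Agent.CharactersDeep.Clifford
import Cfsg.Agent.GaloisConj.Basic
import Mathlib.GroupTheory.Perm.Cycle.Type

/-!
# Galois powers and constituents on a normal subgroup

`θ ↦ (n ↦ θ (n ^ k))` for `k` prime to the group order, and its fixed points among constituents.
-/

set_option autoImplicit false
set_option linter.all false

namespace CfsgLib.OddIndexGalois

open CfsgLib.Characters CfsgLib.OddOrderChar CfsgLib.CharactersDeep.Clifford
open scoped ComplexConjugate

variable {G : Type*} [Group G]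

theorem coprime_subgroup {k : ℕ} (hk : Nat.Coprime k (Nat.card G)) (N : Subgroup G) :
    Nat.Coprime (Nat.card N) k :=
  (Nat.Coprime.coprime_dvd_right N.card_subgroup_dvd_card hk).symm

/-- The inner product is invariant under `x ↦ x ^ k`. -/
theorem classInner_pow {A : Type*} [Group A] [Fintype A] {k : ℕ} (hk : Nat.Coprime (Nat.card A) k)
    (φ ψ : A → ℂ) :
    Cfsg.classInner (fun a => φ (a ^ k)) (fun a => ψ (a ^ k)) = Cfsg.classInner φ ψ := by
  simp only [Cfsg.classInner]
  congr 1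
  exact Fintype.sum_equiv (powCoprime hk) _ _ fun a => rfl

theorem pow_pow_eq_self [Finite G] {k e q : ℕ} (hke : k ^ (q ^ e) ≡ 1 [MOD Nat.card G]) (g : G) :
    g ^ (k ^ (q ^ e)) = g := by
  conv_rhs => rw [← pow_one g]
  rw [pow_eq_pow_iff_modEq]
  exact hke.of_dvd (orderOf_dvd_natCard g)

variable [Fintype G] (N : Subgroup G) [hN : N.Normal] [Fintype N]

/-- The inertia subgroup of a function on `N`. -/
def inertiaOf (θ : N → ℂ) : Subgroup G where
  carrier := {g | conjBy N θ g = θ}
  one_mem' := conjBy_one N θ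
  mul_mem' := fun {a b} (ha : conjBy N θ a = θ) (hb : conjBy N θ b = θ) => by
    show conjBy N θ (a * b) = θ
    rw [← conjBy_mul, ha, hb]
  inv_mem' := fun {a} (ha : conjBy N θ a = θ) => by
    show conjBy N θ a⁻¹ = θ
    conv_lhs => rw [← ha, conjBy_mul, mul_inv_cancel, conjBy_one]

theorem conjBy_of_mem {θ : N → ℂ} (hθ : Cfsg.IsClassFunction N θ) {g : G} (hg : g ∈ N) :
    conjBy N θ g = θ := by
  funext n
  refine Eq.trans ?_ (hθ n ⟨g, hg⟩)
  rfl

/-- The orbit of an irreducible character has size dividing the index. -/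
theorem card_orbit_dvd_index {θ : N → ℂ} (hθ : Cfsg.IsIrrCharacter N θ) :
    (orbit N θ).card ∣ N.index := by
  have h := card_orbit_mul N θ (inertiaOf N θ) fun g => Iff.rfl
  have hle : N ≤ inertiaOf N θ := fun g hg => conjBy_of_mem N (isClassFunction_of_isIrr hθ) hg
  obtain ⟨c, hc⟩ := Subgroup.card_dvd_of_le hle
  rw [hc, ← N.index_mul_card, ← mul_assoc, mul_comm (orbit N θ).card, mul_assoc,
    mul_comm N.index] at h
  exact Dvd.intro c (Nat.eq_of_mul_eq_mul_left Nat.card_pos h)

/-- A character fixed by a `p`-power Galois map has all constituents on a normal subgroup of index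
prime to `p` fixed. -/
theorem constituent_fixed {p k e : ℕ} [Fact p.Prime] (hidx : ¬ p ∣ N.index)
    (hk : Nat.Coprime k (Nat.card G)) (hke : k ^ (p ^ e) ≡ 1 [MOD Nat.card G])
    {χ : G → ℂ} (hχ : Cfsg.IsIrrCharacter G χ) (hχk : ∀ g : G, χ (g ^ k) = χ g)
    {θ : N → ℂ} (hθ : Cfsg.IsIrrCharacter N θ)
    (h : Cfsg.classInner (fun n : N => χ n) θ ≠ 0) : ∀ n : N, θ (n ^ k) = θ n := by
  classical
  have hkN := coprime_subgroup hk N
  let s : (N → ℂ) → (N → ℂ) := fun φ n => φ (n ^ k)
  have hmaps : ∀ φ ∈ orbit N θ, s φ ∈ orbit N θ := by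
    intro φ hφ
    obtain ⟨g, rfl⟩ := (mem_orbit N).1 hφ
    have hirr := CfsgLib.GaloisConj.isIrrCharacter_pow (isIrr_conjBy N hθ g) hkN.symm
    have hne : Cfsg.classInner (fun n : N => χ n) (s (conjBy N θ g)) ≠ 0 := by
      have hr : (fun n : N => χ n) = fun n : N => χ ((n ^ k : N) : G) := by
        funext n; rw [SubmonoidClass.coe_pow, hχk]
      rw [hr]
      show Cfsg.classInner (fun n : N => χ ((n ^ k : N) : G)) (fun n => conjBy N θ g (n ^ k)) ≠ 0
      rw [classInner_pow hkN (fun n : N => χ n) (conjBy N θ g),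
        classInner_restrict_conjBy N (isClassFunction_of_isIrr hχ)]
      exact h
    obtain ⟨g', hg'⟩ := exists_conjBy_of_constituents N hχ hθ hirr h hne
    exact (mem_orbit N).2 ⟨g', hg'.symm⟩
  have hinj : Function.Injective s := by
    intro φ ψ hφψ
    funext n
    obtain ⟨m, rfl⟩ := (powCoprime hkN).surjective n
    exact congrFun hφψ m
  let σ : Equiv.Perm {φ // φ ∈ orbit N θ} := Equiv.ofBijective
    (fun φ => ⟨s φ.1, hmaps _ φ.2⟩)
    (Finite.injective_iff_bijective.1 fun a b hab => Subtype.ext (hinj (congrArg Subtype.val hab)))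
  have hiter : ∀ (j : ℕ) (φ : {φ // φ ∈ orbit N θ}) (n : N),
      ((σ ^ j) φ).1 n = φ.1 (n ^ (k ^ j)) := by
    intro j
    induction j with
    | zero => intro φ n; simp
    | succ j ih =>
      intro φ n
      rw [pow_succ', Equiv.Perm.mul_apply]
      show ((σ ^ j) φ).1 (n ^ k) = _
      rw [ih, ← pow_mul, ← pow_succ']
  have hσ : σ ^ (p ^ e) = 1 := Equiv.ext fun φ => Subtype.ext (funext fun n => by
    rw [hiter]
    show φ.1 _ = φ.1 n
    exact congrArg φ.1 (Subtype.ext ((Subgroup.coe_pow N n _).trans (pow_pow_eq_self hke _))))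
  have hcard : ¬ p ∣ Fintype.card {φ // φ ∈ orbit N θ} := by
    rw [Fintype.card_coe]
    exact fun hd => hidx (hd.trans (card_orbit_dvd_index N hθ))
  obtain ⟨φ, hφ⟩ := Equiv.Perm.exists_fixed_point_of_prime hcard hσ
  have hfix : s φ.1 = φ.1 := congrArg Subtype.val hφ
  obtain ⟨g, hg⟩ := (mem_orbit N).1 φ.2
  intro n
  have hθφ : θ = conjBy N φ.1 g⁻¹ := by rw [← hg, conjBy_mul, mul_inv_cancel, conjBy_one]
  rw [hθφ]
  have key : ∀ m : N, φ.1 (m ^ k) = φ.1 m := fun m => congrFun hfix m
  refine Eq.trans ?_ (key _)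
  refine congrArg φ.1 (Subtype.ext ?_)
  have := (conj_pow (a := g⁻¹) (b := (n : G)) (i := k)).symm
  simpa using this

end CfsgLib.OddIndexGalois
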