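import Cfsg.Agent.OddIndexGalois.Over
import Cfsg.Agent.OddOrderChar.AbelianInertia
import Cfsg.Agent.Characters.Solomon
import Mathlib.GroupTheory.Solvable
import Mathlib.GroupTheory.Nilpotent

/-!
# The fixed extension of an invariant fixed character

For a normal subgroup of odd index an invariant Galois-fixed character extends to the fixed
character over it.
-/

set_option autoImplicit false
set_option linter.all false

namespace CfsgLib.OddIndexGalois

open CfsgLib.Characters CfsgLib.OddOrderChar
open scoped ComplexConjugate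

universe u

/-- The Galois exponent hypotheses. -/
structure GalExp (A : Type u) [Group A] (k : ℕ) : Prop where
  coprime : Nat.Coprime k (Nat.card A)
  exists_two_pow : ∃ e : ℕ, k ^ (2 ^ e) ≡ 1 [MOD Nat.card A]
  inverts : ∀ a : A, Odd (orderOf a) → a ^ k = a⁻¹

theorem GalExp.subgroup {A : Type u} [Group A] {k : ℕ} (h : GalExp A k) (K : Subgroup A) :
    GalExp K k := by
  obtain ⟨e, he⟩ := h.exists_two_pow
  refine ⟨Nat.Coprime.coprime_dvd_right K.card_subgroup_dvd_card h.coprime,
    ⟨e, he.of_dvd K.card_subgroup_dvd_card⟩, fun a ha => Subtype.ext ?_⟩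
  rw [Subgroup.coe_pow, Subgroup.coe_inv]
  exact h.inverts a (by rwa [Subgroup.orderOf_coe])

variable {A : Type u} [Group A] [Fintype A]

/-- `η` is a fixed irreducible extension of `θ`. -/
structure IsFixedExt (N : Subgroup A) (θ : N → ℂ) (k : ℕ) (η : A → ℂ) : Prop where
  irr : Cfsg.IsIrrCharacter A η
  fixed : ∀ a : A, η (a ^ k) = η a
  res : ∀ n : N, η n = θ n

theorem IsFixedExt.mult_eq_one {N : Subgroup A} [Fintype N] {θ : N → ℂ}
    (hθ : Cfsg.IsIrrCharacter N θ) {k : ℕ} {η : A → ℂ} (hη : IsFixedExt N θ k η) :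
    mult N θ ⟨η, hη.irr⟩ = 1 := by
  unfold mult
  rw [show (fun n : N => η n) = θ from funext hη.res]
  exact classInner_isIrr_self hθ

theorem IsFixedExt.unique (N : Subgroup A) [N.Normal] [Fintype N] {θ : N → ℂ}
    (hθ : Cfsg.IsIrrCharacter N θ) {k : ℕ} (hk : GalExp A k) (hidx : Odd N.index)
    {η η' : A → ℂ} (h : IsFixedExt N θ k η) (h' : IsFixedExt N θ k η') : η = η' := by
  obtain ⟨e, he⟩ := hk.exists_two_pow
  exact congrArg Subtype.val (fixed_over_unique N hk.coprime he hidx hk.inverts hθ ⟨η, h.irr⟩ ⟨η', h'.irr⟩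
    (by rw [h.mult_eq_one hθ]; exact one_ne_zero) (Subtype.ext (funext h.fixed))
    (by rw [h'.mult_eq_one hθ]; exact one_ne_zero) (Subtype.ext (funext h'.fixed)))

/-- Invariant case of prime index. -/
theorem exists_ext_prime_index (M : Subgroup A) [M.Normal] [Fintype M] {k : ℕ} (hk : GalExp A k)
    (hidx : Odd M.index) (hprime : M.index.Prime) {θ : M → ℂ} (hθ : Cfsg.IsIrrCharacter M θ)
    (hθk : ∀ n : M, θ (n ^ k) = θ n) (hinv : ∀ a, conjBy M θ a = θ) :
    ∃ η, IsFixedExt M θ k η := by
  classical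
  obtain ⟨e, he⟩ := hk.exists_two_pow
  haveI : Fact M.index.Prime := ⟨hprime⟩
  haveI : IsCyclic (A ⧸ M) := isCyclic_of_prime_card (p := M.index) rfl
  have hab : ∀ x y : A, x * y * x⁻¹ * y⁻¹ ∈ M := by
    intro x y
    rw [← QuotientGroup.eq_one_iff, QuotientGroup.mk_mul, QuotientGroup.mk_mul, QuotientGroup.mk_mul,
      QuotientGroup.mk_inv, QuotientGroup.mk_inv,
      IsCyclic.commGroup.mul_comm (QuotientGroup.mk x : A ⧸ M) (QuotientGroup.mk y)]
    group
  obtain ⟨r, C, hr, hC, hcount, -, hall⟩ := abelian_inertia M hθ hinv hab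
  have hr1 : r = 1 := by
    have hd : r ^ 2 ∣ M.index := Dvd.intro _ hcount
    rcases hprime.eq_one_or_self_of_dvd _ hd with h | h
    · exact ((pow_eq_one_iff (M := ℕ)).1 h).resolve_right two_ne_zero
    · exact absurd (h ▸ hprime) (Nat.Prime.not_prime_pow le_rfl)
  obtain ⟨χ, hχ0, hχf⟩ := exists_fixed_over M hk.coprime he hidx hθ hθk
  have hχC := hall _ χ.2 hχ0
  refine ⟨χ, χ.2, fun a => congrFun (congrArg Subtype.val hχf) a, fun n => ?_⟩
  obtain ⟨m, -, hm, hm'⟩ := CfsgLib.CharactersDeep.Clifford.restrict_eq_smul M χ.2 hθ hinv hχ0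
  have := (hC _ hχC).2.1
  rw [hm', hr1] at this
  have h1 := congrFun hm n
  rw [this, Nat.cast_one, one_smul] at h1
  exact h1

/-- Solvable quotient. -/
theorem exists_ext_solvable : ∀ (d : ℕ) {A : Type u} [Group A] [Fintype A] (N : Subgroup A) [N.Normal]
    [Fintype N] {k : ℕ}, N.index = d → GalExp A k → Odd N.index →
    Group.IsSolvable (A ⧸ N) → ∀ {θ : N → ℂ}, Cfsg.IsIrrCharacter N θ →
    (∀ n : N, θ (n ^ k) = θ n) → (∀ a, conjBy N θ a = θ) → ∃ η, IsFixedExt N θ k η := by
  intro d
  induction d using Nat.strong_induction_on with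
  | _ d ih =>
    intro A _ _ N _ _ k hd hk hidx hsolv θ hθ hθk hinv
    classical
    by_cases h1 : N.index = 1
    · have htop := Subgroup.index_eq_one.1 h1
      let ι : A →* N := { toFun := fun a => ⟨a, htop ▸ Subgroup.mem_top a⟩
                          map_one' := rfl
                          map_mul' := fun _ _ => rfl }
      exact ⟨fun a => θ (ι a), isIrr_comp ι (fun n => ⟨n, Subtype.ext rfl⟩) hθ,
        fun a => by rw [map_pow, hθk], fun n => rfl⟩
    · haveI : Nontrivial (A ⧸ N) := by
        rw [← not_subsingleton_iff_nontrivial]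
        intro hs
        exact h1 (Nat.card_eq_one_iff_unique.2 ⟨hs, inferInstance⟩)
      haveI := hsolv
      have hne : commutator (A ⧸ N) ≠ ⊤ := (Group.IsSolvable.commutator_lt_top_of_nontrivial (A ⧸ N)).ne
      obtain ⟨Q, hQco, hQ⟩ := (eq_top_or_exists_le_coatom (commutator (A ⧸ N))).resolve_left hne
      haveI hQn : Q.Normal := Subgroup.Normal.of_commutator_le _ hQ
      have hcomm : IsMulCommutative ((A ⧸ N) ⧸ Q) :=
        Subgroup.Normal.quotient_commutative_iff_commutator_le.2 hQ
      have hprime : Q.index.Prime := by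
        haveI : IsSimpleGroup ((A ⧸ N) ⧸ Q) := by
          haveI : Nontrivial ((A ⧸ N) ⧸ Q) := by
            rw [← not_subsingleton_iff_nontrivial]
            intro hs
            exact hQco.1 (Subgroup.index_eq_one.1 (Nat.card_eq_one_iff_unique.2 ⟨hs, inferInstance⟩))
          refine ⟨fun S _ => ?_⟩
          rcases eq_or_lt_of_le (QuotientGroup.le_comap_mk' Q S) with h | h
          · left
            rw [← Subgroup.map_comap_eq_self_of_surjective (QuotientGroup.mk'_surjective Q) S, ← h,
              QuotientGroup.map_mk'_self]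
          · right
            rw [← Subgroup.map_comap_eq_self_of_surjective (QuotientGroup.mk'_surjective Q) S,
              hQco.2 _ h, Subgroup.map_top_of_surjective _ (QuotientGroup.mk'_surjective Q)]
        letI : CommGroup ((A ⧸ N) ⧸ Q) :=
          { (inferInstance : Group ((A ⧸ N) ⧸ Q)) with mul_comm := hcomm.1.comm }
        exact IsSimpleGroup.prime_card
      set M := Q.comap (QuotientGroup.mk' N) with hM
      haveI : M.Normal := hQn.comap _
      have hNM : N ≤ M := QuotientGroup.le_comap_mk' N Q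
      have hMidx : M.index = Q.index := Subgroup.index_comap_of_surjective Q (QuotientGroup.mk'_surjective N)
      haveI : Fintype M := Fintype.ofFinite M
      haveI : Fintype (N.subgroupOf M) := Fintype.ofFinite _
      let E : N.subgroupOf M ≃* N := Subgroup.subgroupOfEquivOfLe hNM
      have hrel : (N.subgroupOf M).index * M.index = N.index := Subgroup.relIndex_mul_index hNM
      have hlt : (N.subgroupOf M).index < d := by
        rw [← hd, ← hrel]
        exact lt_mul_of_one_lt_right (Nat.pos_of_ne_zero Subgroup.index_ne_zero_of_finite)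
          (hMidx ▸ hprime.one_lt)
      have hoddM : Odd M.index ∧ Odd (N.subgroupOf M).index := by
        rw [← hrel, Nat.odd_mul] at hidx; exact hidx.symm
      have hsolvM : Group.IsSolvable (M ⧸ N.subgroupOf M) :=
        Group.isSolvable_of_isSolvable_injective (f := QuotientGroup.map (N.subgroupOf M) N M.subtype le_rfl) (by
          rw [injective_iff_map_eq_one]
          intro x hx
          obtain ⟨y, rfl⟩ := QuotientGroup.mk_surjective x
          have hx' : (y : A) ∈ N := (QuotientGroup.eq_one_iff (y : A)).1 hx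
          exact (QuotientGroup.eq_one_iff y).2 hx')
      obtain ⟨ηM, hηM⟩ := ih _ hlt (N.subgroupOf M) rfl (hk.subgroup M) hoddM.2 hsolvM
        (θ := fun x => θ (E x)) (isIrr_comp E.toMonoidHom E.surjective hθ)
        (fun n => by rw [map_pow, hθk]) (fun m => funext fun x => congrFun (hinv m) (E x))
      have hinvM : ∀ a, conjBy M ηM a = ηM := by
        intro a
        refine IsFixedExt.unique (N.subgroupOf M) (isIrr_comp E.toMonoidHom E.surjective hθ)
          (hk.subgroup M) hoddM.2 ⟨CfsgLib.CharactersDeep.Clifford.isIrr_conjBy M hηM.irr a, fun m => ?_,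
            fun x => ?_⟩ hηM
        · simp only [conjBy_apply]
          refine Eq.trans (congrArg ηM ?_) (hηM.fixed _)
          exact Subtype.ext (by simp [conj_pow])
        · rw [conjBy_apply]
          have hx' : a * ((x : M) : A) * a⁻¹ ∈ N :=
            Subgroup.Normal.conj_mem (inferInstance : N.Normal) _ x.2 a
          refine (hηM.res ⟨⟨a * ((x : M) : A) * a⁻¹, hNM hx'⟩, hx'⟩).trans ?_
          exact congrFun (hinv a) (E x)
      obtain ⟨η, hη⟩ := exists_ext_prime_index M hk hoddM.1 (hMidx ▸ hprime) hηM.irr hηM.fixed hinvM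
      refine ⟨η, hη.irr, hη.fixed, fun n => ?_⟩
      exact (hη.res ⟨n, hNM n.2⟩).trans ((hηM.res ⟨⟨n, hNM n.2⟩, n.2⟩).trans (congrArg θ (Subtype.ext rfl)))

/-- Coset sums of `|η|²` are constant for an extension with cyclic quotient. -/
theorem coset_sum_norm {N : Subgroup A} [N.Normal] [Fintype N] {θ : N → ℂ}
    (hθ : Cfsg.IsIrrCharacter N θ) {η : A → ℂ} (hirr : Cfsg.IsIrrCharacter A η)
    (hres : ∀ n : N, η n = θ n) (hab : ∀ x y : A, x * y * x⁻¹ * y⁻¹ ∈ N) (g : A) :
    ∑ n : N, η (g * n) * conj (η (g * n)) = (Nat.card N : ℂ) := by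
  classical
  haveI : Fintype (A ⧸ N) := Fintype.ofFinite _
  have hcomm : ∀ x y : A ⧸ N, x * y = y * x := by
    intro x y
    obtain ⟨a, rfl⟩ := QuotientGroup.mk_surjective x
    obtain ⟨b, rfl⟩ := QuotientGroup.mk_surjective y
    rw [← QuotientGroup.mk_mul, ← QuotientGroup.mk_mul, QuotientGroup.eq]
    simpa [mul_assoc] using hab b⁻¹ a⁻¹
  let π := QuotientGroup.mk' N
  let P : Cfsg.IrrCharacter (A ⧸ N) → A → ℂ := fun l => η * fun a => (l : A ⧸ N → ℂ) (π a)
  have hPc : ∀ l, Cfsg.IsCharacter A (P l) := fun l =>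
    isCharacter_mul (isCharacter_of_isIrr hirr) (isCharacter_comp π (isCharacter_of_isIrr l.2))
  choose d hd using fun l => classInner_character_irr (hPc l) hirr
  let one : Cfsg.IrrCharacter (A ⧸ N) := ⟨fun _ => 1, isIrr_one⟩
  -- only the trivial twist contains `η`
  have hsum : ∀ a : A, ∑ l, P l a = Cfsg.indFun N θ a := by
    intro a
    rw [show θ = fun n : N => η n from funext fun n => (hres n).symm,
      indFun_restrict N (isClassFunction_of_isIrr hirr)]
    have h := congrFun (char_leftRegular_eq_sum (G := A ⧸ N)) (π a)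
    simp only [char_leftRegular, Finset.sum_apply, Pi.smul_apply, irr_degree_one_of_comm hcomm,
      smul_eq_mul, one_mul] at h
    simp only [P, Pi.mul_apply, ← Finset.mul_sum, ← h]
    congr 1
    by_cases ha : a ∈ N
    · rw [if_pos (show π a = 1 from (QuotientGroup.eq_one_iff a).mpr ha),
        show Cfsg.indFun N (fun _ => (1 : ℂ)) a = _ from
          congrFun (indFun_res_invariant N (θ := fun _ => (1 : ℂ)) (fun _ => rfl)) ⟨a, ha⟩]
      simp [Subgroup.index]
    · rw [if_neg (show ¬ π a = 1 from fun h => ha ((QuotientGroup.eq_one_iff a).mp h)),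
        indFun_normal_eq_zero N _ ha]
  have hone : ∑ l, (d l : ℂ) = 1 := by
    rw [← Finset.sum_congr rfl (fun l _ => hd l), ← classInner_sum_left,
      show (∑ l, P l) = Cfsg.indFun N θ from funext fun a => by rw [Finset.sum_apply, hsum],
      classInner_indFun N θ (isClassFunction_of_isIrr hirr),
      show (fun n : N => η n) = θ from funext hres]
    exact classInner_isIrr_self hθ
  have hd1 : d one = 1 := by
    apply Nat.cast_injective (R := ℂ)
    rw [← hd, show P one = η from funext fun a => mul_one _, classInner_isIrr_self hirr, Nat.cast_one]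
  have hd0 : ∀ l, l ≠ one → d l = 0 := by
    intro l hl
    have h' : ∑ l, d l = 1 := Nat.cast_injective (R := ℂ) (by push_cast; exact hone)
    rw [← Finset.add_sum_erase _ _ (Finset.mem_univ one), hd1] at h'
    have h'' : ∑ x ∈ Finset.univ.erase one, d x = 0 := by omega
    exact Finset.sum_eq_zero_iff.1 h'' l (Finset.mem_erase.2 ⟨hl, Finset.mem_univ _⟩)
  -- indicator of the coset by column orthogonality
  have hind : ∀ a : A, ∑ l : Cfsg.IrrCharacter (A ⧸ N), (l : A ⧸ N → ℂ) (π a) * conj ((l : A ⧸ N → ℂ) (π g)) =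
      if π a = π g then (Nat.card (A ⧸ N) : ℂ) else 0 := by
    intro a
    split_ifs with h
    · rw [h, Finset.sum_congr rfl fun l _ => norm_irr_of_comm hcomm l (π g), Finset.sum_const,
        Finset.card_univ, ← Nat.card_eq_fintype_card, nsmul_one, card_irrCharacter]
      congr 1
      exact (Nat.card_congr (Equiv.ofBijective ConjClasses.mk ⟨fun x y hxy => by
        obtain ⟨c, hc⟩ := isConj_iff.1 (ConjClasses.mk_eq_mk_iff_isConj.1 hxy)
        rw [← hc, hcomm c x, mul_inv_cancel_right], ConjClasses.mk_surjective⟩)).symm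
    · refine sum_irr_mul_conj_of_not_isConj fun hc => h ?_
      obtain ⟨c, hc⟩ := isConj_iff.1 hc
      rw [← hc, hcomm c, mul_inv_cancel_right]
  have key : ∑ a : A, (∑ l : Cfsg.IrrCharacter (A ⧸ N), (l : A ⧸ N → ℂ) (π a) * conj ((l : A ⧸ N → ℂ) (π g))) *
      (η a * conj (η a)) = (Nat.card A : ℂ) := by
    simp only [Finset.sum_mul]
    rw [Finset.sum_comm, Finset.sum_eq_single one]
    · have h := classInner_isIrr_self hirr
      rw [Cfsg.classInner, inv_mul_eq_iff_eq_mul₀ natCard_ne_zero, mul_one] at h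
      rw [← h]
      exact Finset.sum_congr rfl fun a _ => by simp [one]
    · intro l _ hl
      have h := hd l
      rw [hd0 l hl, Nat.cast_zero, Cfsg.classInner, mul_eq_zero,
        or_iff_right (inv_ne_zero natCard_ne_zero)] at h
      rw [← mul_zero (conj ((l : A ⧸ N → ℂ) (π g))), ← h, Finset.mul_sum]
      exact Finset.sum_congr rfl fun a _ => by simp only [P, Pi.mul_apply]; ring
    · intro h; exact absurd (Finset.mem_univ one) h
  simp only [hind, ite_mul, zero_mul] at key
  rw [← Finset.sum_filter, ← Finset.mul_sum, Subgroup.card_eq_card_quotient_mul_card_subgroup N,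
    Nat.cast_mul] at key
  refine Eq.trans ?_ (mul_left_cancel₀ (Nat.cast_ne_zero.2 Nat.card_pos.ne') key)
  refine Finset.sum_bij (fun (n : N) _ => g * (n : A)) ?_ ?_ ?_ ?_
  · intro n _
    refine Finset.mem_filter.2 ⟨Finset.mem_univ _, ?_⟩
    show (QuotientGroup.mk (g * (n : A)) : A ⧸ N) = QuotientGroup.mk g
    rw [QuotientGroup.mk_mul, (QuotientGroup.eq_one_iff (n : A)).2 n.2, mul_one]
  · intro a _ b _ hab'
    exact Subtype.ext (mul_left_cancel hab')
  · intro a ha
    exact ⟨⟨g⁻¹ * a, QuotientGroup.eq.1 (Finset.mem_filter.1 ha).2.symm⟩, Finset.mem_univ _,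
      mul_inv_cancel_left _ _⟩
  · intro n _; rfl

/-- The join of `N` with a quasi-elementary subgroup has solvable quotient by `N`. -/
theorem solvable_quotient_sup (N E : Subgroup A) [hN : N.Normal] {p : ℕ} (hp : p.Prime)
    (hE : IsQuasiElementary p E) : Group.IsSolvable (↥(N ⊔ E) ⧸ N.subgroupOf (N ⊔ E)) := by
  haveI : Fact p.Prime := ⟨hp⟩
  obtain ⟨x, hn, -, k, hk⟩ := hE
  haveI := hn
  haveI h1 : Group.IsSolvable (E ⧸ Subgroup.zpowers x) := by
    haveI : Group.IsNilpotent (E ⧸ Subgroup.zpowers x) :=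
      (IsPGroup.of_card (p := p) (n := k) hk).isNilpotent
    infer_instance
  haveI h2 : Group.IsSolvable (Subgroup.zpowers x) :=
    Group.isSolvable_of_comm fun a b => IsCyclic.commGroup.mul_comm a b
  haveI hsE : Group.IsSolvable E :=
    Group.isSolvable_of_ker_le_range (Subgroup.zpowers x).subtype
      (QuotientGroup.mk' (Subgroup.zpowers x)) (by simp)
  let f : E →* ↥(N ⊔ E) ⧸ N.subgroupOf (N ⊔ E) :=
    (QuotientGroup.mk' _).comp (Subgroup.inclusion le_sup_right)
  have hf : Function.Surjective f := by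
    intro q
    obtain ⟨⟨y, hy⟩, rfl⟩ := QuotientGroup.mk_surjective q
    obtain ⟨n, hn, z, hz, rfl⟩ := Subgroup.mem_sup_of_normal_left.1 hy
    refine ⟨⟨z, hz⟩, ?_⟩
    refine QuotientGroup.eq.2 ?_
    rw [Subgroup.mem_subgroupOf]
    simpa [mul_assoc] using hN.conj_mem n hn z⁻¹
  exact Group.isSolvable_of_surjective (f := f) hf

/-- The invariant case. -/
theorem exists_ext (N : Subgroup A) [hN : N.Normal] [Fintype N] {k : ℕ} (hk : GalExp A k)
    (hidx : Odd N.index) {θ : N → ℂ} (hθ : Cfsg.IsIrrCharacter N θ)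
    (hθk : ∀ n : N, θ (n ^ k) = θ n) (hinv : ∀ a, conjBy N θ a = θ) :
    ∃ η, IsFixedExt N θ k η := by
  classical
  -- extensions to the subgroups with solvable quotient
  let Good : Subgroup A → Prop := fun K => N ≤ K ∧ Group.IsSolvable (K ⧸ N.subgroupOf K)
  have hex : ∀ K : Subgroup A, Good K → ∃ η : K → ℂ, Cfsg.IsIrrCharacter K η ∧
      (∀ a : K, η (a ^ k) = η a) ∧ ∀ (n : A) (h : n ∈ N) (h' : n ∈ K), η ⟨n, h'⟩ = θ ⟨n, h⟩ := by
    intro K hK
    haveI : Fintype K := Fintype.ofFinite K
    haveI : Fintype (N.subgroupOf K) := Fintype.ofFinite _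
    let E : N.subgroupOf K ≃* N := Subgroup.subgroupOfEquivOfLe hK.1
    obtain ⟨η, hη⟩ := exists_ext_solvable _ (N.subgroupOf K) rfl (hk.subgroup K)
      (hidx.of_dvd_nat (Subgroup.relIndex_dvd_index_of_normal N K)) hK.2
      (θ := fun x => θ (E x)) (isIrr_comp E.toMonoidHom E.surjective hθ)
      (fun n => by rw [map_pow, hθk]) (fun m => funext fun x => congrFun (hinv m) (E x))
    exact ⟨η, hη.irr, hη.fixed, fun n h h' => (hη.res ⟨⟨n, h'⟩, h⟩).trans rfl⟩
  choose! η₀ hirr hfix hres using hex
  have huniq : ∀ (K : Subgroup A), Good K → ∀ η' : K → ℂ, Cfsg.IsIrrCharacter K η' →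
      (∀ a : K, η' (a ^ k) = η' a) → (∀ (n : A) (h : n ∈ N) (h' : n ∈ K), η' ⟨n, h'⟩ = θ ⟨n, h⟩) →
      η' = η₀ K := by
    intro K hK η' h1 h2 h3
    haveI : Fintype K := Fintype.ofFinite K
    haveI : Fintype (N.subgroupOf K) := Fintype.ofFinite _
    let E : N.subgroupOf K ≃* N := Subgroup.subgroupOfEquivOfLe hK.1
    exact IsFixedExt.unique (N.subgroupOf K) (θ := fun x => θ (E x))
      (isIrr_comp E.toMonoidHom E.surjective hθ) (hk.subgroup K)
      (hidx.of_dvd_nat (Subgroup.relIndex_dvd_index_of_normal N K))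
      ⟨h1, h2, fun x => h3 _ x.2 x.1.2⟩ ⟨hirr K hK, hfix K hK, fun x => hres K hK _ x.2 x.1.2⟩
  have hcyc : ∀ g : A, Good (N ⊔ Subgroup.zpowers g) := by
    intro g
    refine ⟨le_sup_left, ?_⟩
    set K := N ⊔ Subgroup.zpowers g
    let f : Subgroup.zpowers g →* K ⧸ N.subgroupOf K :=
      (QuotientGroup.mk' _).comp (Subgroup.inclusion le_sup_right)
    have hf : Function.Surjective f := by
      intro q
      obtain ⟨⟨x, hx⟩, rfl⟩ := QuotientGroup.mk_surjective q
      obtain ⟨n, hn, z, hz, rfl⟩ := Subgroup.mem_sup_of_normal_left.1 hx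
      refine ⟨⟨z, hz⟩, ?_⟩
      refine QuotientGroup.eq.2 ?_
      rw [Subgroup.mem_subgroupOf]
      simpa [mul_assoc] using hN.conj_mem n hn z⁻¹
    haveI : Group.IsSolvable (Subgroup.zpowers g) :=
      Group.isSolvable_of_comm fun a b => IsCyclic.commGroup.mul_comm a b
    exact Group.isSolvable_of_surjective (f := f) hf
  -- compatibility
  have hcompat : ∀ (K L : Subgroup A) (hL : Good L) (hK : Good K) (hLK : L ≤ K) (x : L),
      η₀ K ⟨x, hLK x.2⟩ = η₀ L x := by
    intro K L hL hK hLK x
    haveI : Fintype L := Fintype.ofFinite L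
    haveI : Fintype K := Fintype.ofFinite K
    let i := Subgroup.inclusion hLK
    have hc : Cfsg.IsCharacter L (fun y => η₀ K (i y)) :=
      isCharacter_comp i (isCharacter_of_isIrr (hirr K hK))
    have hirrL : Cfsg.IsIrrCharacter L (fun y => η₀ K (i y)) := by
      obtain ⟨χ, hχ, hne⟩ := exists_constituent hc (fun h => irr_one_ne_zero hθ (by
        have h1 := congrFun h 1
        rw [Pi.zero_apply] at h1
        rw [← h1]
        exact (hres K hK 1 (one_mem N) (one_mem K)).symm))
      have hres' : (fun n : N.subgroupOf L => (fun y => η₀ K (i y)) n) =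
          fun n => θ (Subgroup.subgroupOfEquivOfLe hL.1 n) :=
        funext fun n => hres K hK _ n.2 _
      haveI : Fintype (N.subgroupOf L) := Fintype.ofFinite _
      obtain ⟨a, ha⟩ := exists_degree (isCharacter_of_isIrr hθ)
      obtain ⟨b, hb⟩ := exists_degree (isCharacter_of_isIrr hχ)
      have h1 : (fun y => η₀ K (i y)) 1 = (a : ℂ) :=
        (hres K hK 1 (one_mem N) (one_mem K)).trans ha
      have hab : a ≤ b := by
        -- the restriction of `χ` to `N` is a nonzero multiple of `θ`
        obtain ⟨c, hc'⟩ := exists_nat_coeff hc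
        have hcχ : c ⟨χ, hχ⟩ ≠ 0 := by
          intro h0
          apply hne
          rw [hc', classInner_irr_coeff (fun ψ => (c ψ : ℂ)) ⟨χ, hχ⟩, h0, Nat.cast_zero]
        let θ' : N.subgroupOf L → ℂ := fun n => θ (Subgroup.subgroupOfEquivOfLe hL.1 n)
        have hθ' : Cfsg.IsIrrCharacter (N.subgroupOf L) θ' :=
          isIrr_comp (Subgroup.subgroupOfEquivOfLe hL.1).toMonoidHom
            (Subgroup.subgroupOfEquivOfLe hL.1).surjective hθ
        obtain ⟨φ, hφ, hφne⟩ := exists_constituent
          (isCharacter_restrict (N.subgroupOf L) (isCharacter_of_isIrr hχ))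
          (fun h => irr_one_ne_zero hχ (congrFun h 1))
        have hφθ : φ = θ' := by
          by_contra hne'
          have h0 := classInner_isIrr_ne hθ' hφ (Ne.symm hne')
          have hexp : θ' = ∑ ψ : Cfsg.IrrCharacter L,
              (c ψ : ℂ) • fun n : N.subgroupOf L => (ψ : L → ℂ) n := by
            rw [show θ' = fun n => θ (Subgroup.subgroupOfEquivOfLe hL.1 n) from rfl, ← hres']
            funext n
            rw [hc']
            simp [Finset.sum_apply]
          rw [hexp, classInner_sum_left] at h0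
          choose m hm using fun ψ : Cfsg.IrrCharacter L => classInner_character_irr
            (isCharacter_restrict (N.subgroupOf L) (isCharacter_of_isIrr ψ.2)) hφ
          have hz : ∑ ψ, c ψ * m ψ = 0 := by
            apply Nat.cast_injective (R := ℂ)
            push_cast
            rw [← h0]
            exact Finset.sum_congr rfl fun ψ _ => by rw [classInner_smul_left, hm]
          rcases Nat.mul_eq_zero.1 (Finset.sum_eq_zero_iff.1 hz ⟨χ, hχ⟩ (Finset.mem_univ _)) with h | h
          · exact hcχ h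
          · apply hφne
            rw [show (fun n : N.subgroupOf L => χ n) = fun n : N.subgroupOf L =>
              ((⟨χ, hχ⟩ : Cfsg.IrrCharacter L) : L → ℂ) n from rfl, hm, h, Nat.cast_zero]
        have hinv' : ∀ l, conjBy (N.subgroupOf L) θ' l = θ' := fun l =>
          funext fun n => congrFun (hinv (l : A)) (Subgroup.subgroupOfEquivOfLe hL.1 n)
        subst hφθ
        obtain ⟨m, hm0, hm, -⟩ :=
          CfsgLib.CharactersDeep.Clifford.restrict_eq_smul (N.subgroupOf L) hχ hθ' hinv' hφne
        have h2 := congrFun hm 1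
        rw [Pi.smul_apply, smul_eq_mul, OneMemClass.coe_one, hb,
          show θ' 1 = (a : ℂ) from (congrArg θ (map_one _)).trans ha, ← Nat.cast_mul, Nat.cast_inj] at h2
        exact h2 ▸ Nat.le_mul_of_pos_left a hm0
      rw [CfsgLib.CharactersDeep.Clifford.eq_of_constituent_of_degree_le hc hχ hne h1 hb hab]
      exact hχ
    exact congrFun (huniq L hL _ hirrL (fun a => by rw [map_pow]; exact hfix K hK _)
      (fun n h h' => hres K hK n h _)) x
  -- the class function
  obtain ⟨η, hη⟩ : ∃ η : A → ℂ, ∀ g, η g = η₀ (N ⊔ Subgroup.zpowers g)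
      ⟨g, Subgroup.mem_sup_right (Subgroup.mem_zpowers g)⟩ := ⟨_, fun g => rfl⟩
  have hηK : ∀ (K : Subgroup A) (hK : Good K) (x : K), η₀ K x = η x := fun K hK x =>
    (hcompat K _ (hcyc x) hK (sup_le hK.1 (Subgroup.zpowers_le.2 x.2))
      ⟨x, Subgroup.mem_sup_right (Subgroup.mem_zpowers _)⟩).trans (hη x).symm
  have hηN : ∀ n : N, η n = θ n := fun n => (hη n).trans (hres _ (hcyc n) _ n.2 _)
  have hηfix : ∀ g : A, η (g ^ k) = η g := by
    intro g
    have h1 := hfix _ (hcyc g) ⟨g, Subgroup.mem_sup_right (Subgroup.mem_zpowers g)⟩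
    rw [hηK _ (hcyc g), hηK _ (hcyc g)] at h1
    exact h1
  have hcf : Cfsg.IsClassFunction A η := by
    intro g c
    set K := N ⊔ Subgroup.zpowers g
    set K' := N ⊔ Subgroup.zpowers (c * g * c⁻¹)
    have hmap : K.map (MulAut.conj c).toMonoidHom = K' := by
      rw [Subgroup.map_sup, MonoidHom.map_zpowers]
      congr 1
      exact le_antisymm (fun y ⟨x, hx, hy⟩ => hy ▸ hN.conj_mem x hx c)
        (fun y hy => ⟨c⁻¹ * y * c, by simpa using hN.conj_mem y hy c⁻¹, by simp [mul_assoc]⟩)
    let j : K →* K' := ((MulAut.conj c).toMonoidHom.comp K.subtype).codRestrict K'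
      fun x => hmap ▸ Subgroup.mem_map_of_mem _ x.2
    have hj : Function.Surjective j := by
      rintro ⟨y, hy⟩
      rw [← hmap] at hy
      obtain ⟨x, hx, rfl⟩ := hy
      exact ⟨⟨x, hx⟩, rfl⟩
    have h := huniq K (hcyc g) (fun x => η₀ K' (j x)) (isIrr_comp j hj (hirr K' (hcyc _)))
      (fun a => by rw [map_pow]; exact hfix K' (hcyc _) _)
      (fun n hn hnK => by
        have hcn : c * n * c⁻¹ ∈ N := hN.conj_mem n hn c
        refine (hres K' (hcyc _) (c * n * c⁻¹) hcn _).trans ?_
        exact congrFun (hinv c) ⟨n, hn⟩)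
    rw [hη, hη]
    exact congrFun h ⟨g, Subgroup.mem_sup_right (Subgroup.mem_zpowers g)⟩
  -- generalized character
  have hgen : Cfsg.IsGeneralizedCharacter A η := by
    have h1 := one_mem_qeSpan (G := A)
    have key : ∀ f : A → ℤ, f ∈ qeSpan (G := A) (fun _ => True) →
        Cfsg.IsGeneralizedCharacter A (fun a => (f a : ℂ) * η a) := by
      intro f hf
      induction hf using AddSubgroup.closure_induction with
      | mem f hf =>
        obtain ⟨E, ⟨p, hp, -, hE⟩, rfl⟩ := hf
        haveI : Fintype E := Fintype.ofFinite E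
        have hK : Good (N ⊔ E) := ⟨le_sup_left, solvable_quotient_sup N E hp hE⟩
        have hfun : (fun a => (cosetFix E a : ℂ) * η a) = Cfsg.indFun E (fun x : E => η x) := by
          rw [show (fun x : E => η x) = fun x : E => (1 : ℂ) * η x from funext fun x => (one_mul _).symm,
            indFun_mul E (fun _ => 1) hcf]
          funext a
          rw [cosetFix_eq_indFun]
        rw [hfun]
        refine isGen_indFun E (isGen_of_isCharacter ?_)
        have he : (fun x : E => η x) = fun x : E =>
            η₀ (N ⊔ E) (Subgroup.inclusion (le_sup_right : E ≤ N ⊔ E) x) :=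
          funext fun x => (hηK (N ⊔ E) hK (Subgroup.inclusion (le_sup_right : E ≤ N ⊔ E) x)).symm
        rw [he]
        exact isCharacter_comp _ (isCharacter_of_isIrr (hirr _ hK))
      | zero =>
        convert isGen_zero (G := A) using 1
        funext x; simp
      | add a b _ _ ha hb =>
        convert isGen_add ha hb using 1
        funext x; simp [add_mul]
      | neg a _ ha =>
        convert isGen_neg ha using 1
        funext x; simp
    simpa using key 1 h1
  -- norm one
  have hnorm : Cfsg.classInner η η = 1 := by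
    have hg : ∀ g : A, ∑ n : N, η (g * n) * conj (η (g * n)) = (Nat.card N : ℂ) := by
      intro g
      set K := N ⊔ Subgroup.zpowers g
      haveI : Fintype K := Fintype.ofFinite K
      haveI : Fintype (N.subgroupOf K) := Fintype.ofFinite _
      let E : N.subgroupOf K ≃* N := Subgroup.subgroupOfEquivOfLe le_sup_left
      have hab : ∀ x y : K, x * y * x⁻¹ * y⁻¹ ∈ N.subgroupOf K := by
        intro x y
        rw [Subgroup.mem_subgroupOf, ← QuotientGroup.eq_one_iff (N := N)]
        have hp : ∀ x : K, ∃ i : ℤ, (QuotientGroup.mk (x : A) : A ⧸ N) = (QuotientGroup.mk g) ^ i := by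
          intro x
          obtain ⟨n, hn, z, hz, hx⟩ := Subgroup.mem_sup_of_normal_left.1 x.2
          obtain ⟨i, rfl⟩ := Subgroup.mem_zpowers_iff.1 hz
          exact ⟨i, by rw [← hx, QuotientGroup.mk_mul, (QuotientGroup.eq_one_iff n).2 hn, one_mul,
            QuotientGroup.mk_zpow]⟩
        obtain ⟨i, hi⟩ := hp x
        obtain ⟨j, hj⟩ := hp y
        simp only [Subgroup.coe_mul, Subgroup.coe_inv, QuotientGroup.mk_mul, QuotientGroup.mk_inv, hi, hj]
        group
      have hs := coset_sum_norm (N := N.subgroupOf K) (θ := fun x => θ (E x))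
        (isIrr_comp E.toMonoidHom E.surjective hθ) (hirr K (hcyc g))
        (fun n => hres K (hcyc g) _ n.2 _) hab ⟨g, Subgroup.mem_sup_right (Subgroup.mem_zpowers g)⟩
      rw [Nat.card_congr E.toEquiv] at hs
      rw [← hs]
      refine (Fintype.sum_equiv E.toEquiv _ _ fun n => ?_).symm
      rw [hηK K (hcyc g)]
      rfl
    have h2 : ∑ g : A, ∑ n : N, η (g * n) * conj (η (g * n)) =
        (Nat.card N : ℂ) * ∑ g : A, η g * conj (η g) := by
      rw [Finset.sum_comm, Finset.sum_congr rfl (g := fun _ => ∑ g : A, η g * conj (η g)) fun (n : N) _ =>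
        (Fintype.sum_equiv (Equiv.mulRight (n : A)) (fun g => η (g * n) * conj (η (g * n)))
          (fun g => η g * conj (η g)) fun g => rfl), Finset.sum_const, Finset.card_univ,
        ← Nat.card_eq_fintype_card, nsmul_eq_mul]
    rw [Finset.sum_congr rfl fun g _ => hg g, Finset.sum_const, Finset.card_univ,
      ← Nat.card_eq_fintype_card, nsmul_eq_mul, mul_comm] at h2
    rw [Cfsg.classInner, ← mul_left_cancel₀ (Nat.cast_ne_zero.2 Nat.card_pos.ne') h2,
      inv_mul_cancel₀ natCard_ne_zero]
  obtain ⟨d, hd0, hd⟩ := exists_degree_pos hθ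
  refine ⟨η, ?_, hηfix, hηN⟩
  refine isIrr_of_gen_norm_one hgen hnorm ?_
  rw [show η 1 = θ 1 from hηN 1, hd]
  simp

end CfsgLib.OddIndexGalois
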