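import Cfsg.Agent.OddIndexGalois.Fixed
import Cfsg.Agent.BlocksCharsC.Restriction
import Cfsg.Agent.Characters.Integrality
import Cfsg.Agent.BlockPairs.Orbit
import Cfsg.Agent.Blocks.LocalRing
import Mathlib.Algebra.CharP.Two

/-!
# Galois-fixed characters over a fixed character of a normal subgroup of odd index
-/

set_option autoImplicit false
set_option linter.all false

namespace CfsgLib.OddIndexGalois

open CfsgLib.Characters CfsgLib.OddOrderChar CfsgLib.CharactersDeep.Clifford
open scoped ComplexConjugate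

universe u

/-- A real irreducible character of a group of odd order is trivial. -/
theorem eq_one_of_real_of_odd {A : Type u} [Group A] [Fintype A] (hA : Odd (Nat.card A))
    {ψ : A → ℂ} (hψ : Cfsg.IsIrrCharacter A ψ) (hreal : ∀ a, ψ a⁻¹ = ψ a) : ψ = fun _ => 1 := by
  classical
  by_contra hne
  obtain ⟨m, ρ, hρ, he⟩ := hψ
  have hψ' : Cfsg.IsIrrCharacter A ψ := ⟨m, ρ, hρ, he⟩
  have h0 := classInner_isIrr_ne hψ' isIrr_one hne
  rw [Cfsg.classInner, mul_eq_zero, or_iff_right (inv_ne_zero natCard_ne_zero)] at h0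
  simp only [map_one, mul_one] at h0
  set d := Module.finrank ℂ (Fin m → ℂ)
  have hd : Odd d := hA.of_dvd_nat (finrank_dvd_card ρ)
  obtain ⟨M, hM⟩ := CfsgLib.Blocks.exists_isPModular 2 Nat.prime_two
  haveI := CfsgLib.Blocks.IsPModular.isPrime hM
  haveI := CfsgLib.Blocks.charP_res hM
  let f : A → CfsgLib.Blocks.Res M := fun a => CfsgLib.Blocks.red M
    ⟨ψ a, CfsgLib.Blocks.memLocalRing_of_isIntegral
      (character_isIntegral (isCharacter_of_isIrr hψ') a)⟩
  have hsum : ∑ a, f a = 0 := by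
    simp only [f, ← map_sum]
    convert map_zero (CfsgLib.Blocks.red M)
    exact Subtype.ext (by rw [AddSubmonoidClass.coe_finsetSum]; exact h0)
  have hrest : ∑ a ∈ Finset.univ.erase (1 : A), f a = 0 := by
    refine Finset.sum_involution (fun a _ => a⁻¹) ?_ ?_ ?_ ?_
    · intro a _
      have : f a⁻¹ = f a := by simp only [f, hreal]
      rw [this, CharTwo.add_self_eq_zero]
    · intro a ha _ hinv
      have h2 : orderOf a ∣ 2 := orderOf_dvd_of_pow_eq_one (by
        rw [sq]; conv_lhs => arg 1; rw [← hinv]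
        exact inv_mul_cancel _)
      rcases (Nat.dvd_prime Nat.prime_two).1 h2 with h1 | h1
      · exact (Finset.mem_erase.1 ha).1 (orderOf_eq_one_iff.1 h1)
      · have := hA.of_dvd_nat (h1 ▸ orderOf_dvd_natCard a)
        exact absurd this (by decide)
    · intro a ha
      exact Finset.mem_erase.2 ⟨fun h => (Finset.mem_erase.1 ha).1 (inv_eq_one.1 h), Finset.mem_univ _⟩
    · intro a _
      exact inv_inv a
  rw [← Finset.add_sum_erase _ _ (Finset.mem_univ (1 : A)), hrest, add_zero] at hsum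
  have hf1 : f 1 = (d : CfsgLib.Blocks.Res M) := by
    simp only [f, ← map_natCast (CfsgLib.Blocks.red M)]
    congr 1
    exact Subtype.ext (by simp only [← he, Representation.char_one, SubringClass.coe_natCast]; rfl)
  rw [hf1, CharP.cast_eq_zero_iff _ 2] at hsum
  exact Nat.two_dvd_ne_zero.2 (Nat.odd_iff.1 hd) hsum

variable {G : Type u} [Group G] [Fintype G] (N : Subgroup G) [hN : N.Normal] [Fintype N]

section

variable {k e : ℕ} (hk : Nat.Coprime k (Nat.card G)) (hke : k ^ (2 ^ e) ≡ 1 [MOD Nat.card G])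

/-- The Galois map on irreducible characters. -/
noncomputable def galPerm (hk : Nat.Coprime k (Nat.card G)) : Equiv.Perm (Cfsg.IrrCharacter G) :=
  Equiv.ofBijective (fun χ => ⟨fun g => (χ : G → ℂ) (g ^ k),
      CfsgLib.GaloisConj.isIrrCharacter_pow χ.2 hk⟩)
    (Finite.injective_iff_bijective.1 fun a b hab => Subtype.ext (funext fun g => by
      obtain ⟨y, rfl⟩ := (powCoprime hk.symm).surjective g
      exact congrFun (congrArg Subtype.val hab) y))

theorem galPerm_apply (χ : Cfsg.IrrCharacter G) (g : G) :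
    ((galPerm hk χ : Cfsg.IrrCharacter G) : G → ℂ) g = (χ : G → ℂ) (g ^ k) := rfl

include hke in
theorem galPerm_pow_eq_one : galPerm hk ^ (2 ^ e) = 1 := by
  have hiter : ∀ (j : ℕ) (χ : Cfsg.IrrCharacter G) (g : G),
      (((galPerm hk ^ j) χ : Cfsg.IrrCharacter G) : G → ℂ) g = (χ : G → ℂ) (g ^ (k ^ j)) := by
    intro j
    induction j with
    | zero => intro χ g; simp
    | succ j ih =>
      intro χ g
      rw [pow_succ', Equiv.Perm.mul_apply, galPerm_apply, ih, ← pow_mul, ← pow_succ']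
  refine Equiv.ext fun χ => Subtype.ext (funext fun g => ?_)
  rw [hiter, pow_pow_eq_self hke]
  rfl

include hk hke in
/-- An invariant natural-number weight has the parity of its fixed part. -/
theorem sum_eq_sum_fixed_mod_two (w : Cfsg.IrrCharacter G → ZMod 2)
    (hw : ∀ χ, w (galPerm hk χ) = w χ) [DecidablePred fun χ => galPerm hk χ = χ] :
    ∑ χ, w χ = ∑ χ ∈ Finset.univ.filter (fun χ => galPerm hk χ = χ), w χ := by
  classical
  haveI : Fact (Nat.Prime 2) := ⟨Nat.prime_two⟩
  set σ := galPerm hk with hσ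
  have hR : IsPGroup 2 (Subgroup.zpowers σ) := by
    rintro ⟨x, hx⟩
    obtain ⟨j, rfl⟩ := Subgroup.mem_zpowers_iff.1 hx
    refine ⟨e, Subtype.ext ?_⟩
    show (σ ^ j) ^ (2 ^ e) = 1
    rw [← zpow_natCast, ← zpow_mul, mul_comm, zpow_mul, zpow_natCast, galPerm_pow_eq_one hk hke,
      one_zpow]
  have hinv : ∀ (r : Subgroup.zpowers σ) χ, w (r • χ) = w χ := by
    rintro ⟨x, hx⟩ χ
    show w (x χ) = w χ
    have key : ∀ n : ℕ, ∀ χ, w ((σ ^ n) χ) = w χ := by
      intro n
      induction n with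
      | zero => intro χ; rfl
      | succ n ih => intro χ; rw [pow_succ', Equiv.Perm.mul_apply, hw, ih]
    obtain ⟨n, rfl⟩ := mem_zpowers_iff_mem_range_orderOf.1 hx |> Finset.mem_image.1 |>
      fun ⟨n, _, hn⟩ => (⟨n, hn⟩ : ∃ n : ℕ, σ ^ n = x)
    exact key n χ
  rw [CfsgLib.BlockPairs.sum_eq_sum_fixed hR (fun x => ZModModule.char_nsmul_eq_zero 2 x) w hinv]
  refine Finset.sum_congr (Finset.ext fun χ => ?_) fun _ _ => rfl
  simp only [Finset.mem_filter, Finset.mem_univ, true_and]
  refine ⟨fun h => h ⟨σ, Subgroup.mem_zpowers σ⟩, fun h r => ?_⟩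
  obtain ⟨x, hx⟩ := r
  show x χ = χ
  obtain ⟨j, rfl⟩ := Subgroup.mem_zpowers_iff.1 hx
  exact Function.IsFixedPt.perm_zpow h j

/-- The multiplicity of `θ` in the restriction. -/
noncomputable def mult (θ : N → ℂ) (χ : Cfsg.IrrCharacter G) : ℂ :=
  Cfsg.classInner (fun n : N => (χ : G → ℂ) n) θ

include hk in
theorem mult_galPerm {θ : N → ℂ} (hθk : ∀ n : N, θ (n ^ k) = θ n) (χ : Cfsg.IrrCharacter G) :
    mult N θ (galPerm hk χ) = mult N θ χ := by
  unfold mult
  conv_lhs => arg 2; rw [show θ = fun n => θ (n ^ k) from funext fun n => (hθk n).symm]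
  refine Eq.trans ?_ (classInner_pow (coprime_subgroup hk N) (fun n : N => (χ : G → ℂ) n) θ)
  simp only [galPerm_apply, Subgroup.coe_pow]

end

theorem degree_eq {θ : N → ℂ} (hθ : Cfsg.IsIrrCharacter N θ) (χ : Cfsg.IrrCharacter G)
    (h : mult N θ χ ≠ 0) : (χ : G → ℂ) 1 = mult N θ χ * ((orbit N θ).card : ℂ) * θ 1 := by
  classical
  have h5 := congrFun (restrict_eq_orbit_sum N χ.2 hθ h) 1
  simp only [Pi.smul_apply, Finset.sum_apply, smul_eq_mul, OneMemClass.coe_one] at h5
  rw [h5, Finset.sum_congr rfl (g := fun _ => θ 1) fun φ hφ => ?_, Finset.sum_const, nsmul_eq_mul]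
  · unfold mult; ring
  · obtain ⟨g, rfl⟩ := (mem_orbit N).1 hφ
    exact congrArg θ (Subtype.ext (by simp))

/-- Existence of a fixed character over a fixed character. -/
theorem exists_fixed_over {k e : ℕ} (hk : Nat.Coprime k (Nat.card G))
    (hke : k ^ (2 ^ e) ≡ 1 [MOD Nat.card G]) (hidx : Odd N.index) {θ : N → ℂ}
    (hθ : Cfsg.IsIrrCharacter N θ) (hθk : ∀ n : N, θ (n ^ k) = θ n) :
    ∃ χ : Cfsg.IrrCharacter G, mult N θ χ ≠ 0 ∧ galPerm hk χ = χ := by
  classical
  have hnat : ∀ χ : Cfsg.IrrCharacter G, ∃ m : ℕ, mult N θ χ = m := fun χ =>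
    classInner_character_irr (isCharacter_restrict N (isCharacter_of_isIrr χ.2)) hθ
  choose m hm using hnat
  have hdeg : ∑ χ : Cfsg.IrrCharacter G, m χ * (m χ * (orbit N θ).card) = N.index := by
    apply Nat.cast_injective (R := ℂ)
    have h1 := indFun_one N θ
    obtain ⟨c, hc⟩ := exists_nat_coeff (isCharacter_indFun N (isCharacter_of_isIrr hθ))
    rw [hc, Finset.sum_apply] at h1
    refine mul_right_cancel₀ (irr_one_ne_zero hθ) ?_
    push_cast
    rw [← h1, Finset.sum_mul]
    refine Finset.sum_congr rfl fun χ _ => ?_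
    have hcm : (c χ : ℂ) = (m χ : ℂ) := by
      have h2 : Cfsg.classInner (Cfsg.indFun N θ) (χ : G → ℂ) = (c χ : ℂ) := by
        rw [hc]; exact classInner_irr_coeff (fun ψ => (c ψ : ℂ)) χ
      rw [← h2, classInner_indFun N θ (isClassFunction_of_isIrr χ.2), classInner_conj_symm]
      show conj (mult N θ χ) = _
      rw [hm, Complex.conj_natCast]
    rw [Pi.smul_apply, smul_eq_mul, hcm]
    rcases eq_or_ne (m χ) 0 with h0 | h0
    · simp [h0]
    · rw [degree_eq N hθ χ (by rw [hm]; exact_mod_cast h0), hm]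
      ring
  by_contra hno
  push Not at hno
  have hz := sum_eq_sum_fixed_mod_two hk hke
    (fun χ => ((m χ * (m χ * (orbit N θ).card) : ℕ) : ZMod 2)) (fun χ => by
      have : m (galPerm hk χ) = m χ := Nat.cast_injective (R := ℂ)
        (by rw [← hm, ← hm, mult_galPerm N hk hθk])
      simp only [this])
  rw [Finset.sum_eq_zero (s := Finset.univ.filter _) fun χ hχ => ?_, ← Nat.cast_sum, hdeg,
    ZMod.natCast_eq_zero_iff_even] at hz
  · exact Nat.not_even_iff_odd.2 hidx hz
  · have : m χ = 0 := by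
      by_contra h0
      exact hno χ (by rw [hm]; exact_mod_cast h0) (Finset.mem_filter.1 hχ).2
    simp [this]

/-- A fixed constituent of the permutation character on `G / N` is trivial. -/
theorem eq_one_of_fixed_trivial_on {k : ℕ} (hk : Nat.Coprime k (Nat.card G)) (hidx : Odd N.index)
    (hk₂ : ∀ g : G, Odd (orderOf g) → g ^ k = g⁻¹) (ψ : Cfsg.IrrCharacter G)
    (hψ : galPerm hk ψ = ψ) (hker : ∀ n ∈ N, (ψ : G → ℂ) n = (ψ : G → ℂ) 1) :
    (ψ : G → ℂ) = fun _ => 1 := by
  classical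
  obtain ⟨φ, hφ, hφψ⟩ := exists_irr_quotient N ψ.2 hker
  haveI := Fintype.ofFinite (G ⧸ N)
  have hodd : Odd (Nat.card (G ⧸ N)) := hidx
  have : φ = fun _ => 1 := by
    refine eq_one_of_real_of_odd hodd hφ fun q => ?_
    obtain ⟨g, rfl⟩ := QuotientGroup.mk_surjective q
    -- a representative of odd order
    set a := (Nat.card G).factorization 2
    obtain ⟨s, hs⟩ : ∃ s : ℕ, 2 ^ a * s ≡ 1 [MOD Nat.card (G ⧸ N)] := by
      obtain ⟨x, hx0, hx1⟩ :=
        Nat.chineseRemainder (Nat.Coprime.pow_left a (Nat.coprime_two_left.2 hodd)) 0 1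
      obtain ⟨s, rfl⟩ := Nat.modEq_zero_iff_dvd.1 hx0
      exact ⟨s, hx1⟩
    set h := g ^ (2 ^ a * s)
    have hgh : (QuotientGroup.mk h : G ⧸ N) = QuotientGroup.mk g := by
      rw [QuotientGroup.mk_pow]
      conv_rhs => rw [← pow_one (QuotientGroup.mk g : G ⧸ N)]
      rw [pow_eq_pow_iff_modEq]
      exact hs.of_dvd (orderOf_dvd_natCard _)
    have hho : Odd (orderOf h) := by
      have h1 : h ^ (Nat.card G / 2 ^ a) = 1 := by
        rw [← pow_mul, mul_comm (2 ^ a) s, mul_assoc, Nat.mul_div_cancel' (Nat.ordProj_dvd _ _),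
          mul_comm, pow_mul, pow_card_eq_one', one_pow]
      rw [Nat.odd_iff, ← Nat.two_dvd_ne_zero]
      exact fun hd => Nat.not_dvd_ordCompl Nat.prime_two Nat.card_pos.ne'
        (hd.trans (orderOf_dvd_of_pow_eq_one h1))
    rw [← hgh, ← QuotientGroup.mk_inv, ← hφψ, ← hφψ, ← hk₂ h hho]
    conv_rhs => rw [← hψ]
    rfl
  funext g
  rw [hφψ, this]

/-- Uniqueness. -/
theorem fixed_over_unique {k e : ℕ} (hk : Nat.Coprime k (Nat.card G))
    (hke : k ^ (2 ^ e) ≡ 1 [MOD Nat.card G]) (hidx : Odd N.index)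
    (hk₂ : ∀ g : G, Odd (orderOf g) → g ^ k = g⁻¹) {θ : N → ℂ} (hθ : Cfsg.IsIrrCharacter N θ)
    (χ χ' : Cfsg.IrrCharacter G) (h : mult N θ χ ≠ 0) (hf : galPerm hk χ = χ)
    (h' : mult N θ χ' ≠ 0) (hf' : galPerm hk χ' = χ') : χ = χ' := by
  classical
  set o := (orbit N θ).card
  have hoodd : Odd o := hidx.of_dvd_nat (card_orbit_dvd_index N hθ)
  have hnat : ∀ χ : Cfsg.IrrCharacter G, ∃ m : ℕ, mult N θ χ = m := fun χ =>
    classInner_character_irr (isCharacter_restrict N (isCharacter_of_isIrr χ.2)) hθ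
  choose m hm using hnat
  -- the trivial character
  let one : Cfsg.IrrCharacter G := ⟨fun _ => 1, isIrr_one⟩
  have key : ∀ χ χ' : Cfsg.IrrCharacter G, mult N θ χ ≠ 0 → galPerm hk χ = χ → mult N θ χ' ≠ 0 →
      galPerm hk χ' = χ' →
      ((m χ * m χ' * o : ℕ) : ZMod 2) = if χ = χ' then 1 else 0 := by
    intro χ χ' h hf h' hf'
    obtain ⟨c, hc⟩ := exists_nat_coeff (isCharacter_indFun N (isCharacter_one (G := N)))
    have hd : ∀ ψ : Cfsg.IrrCharacter G, ∃ d : ℕ,
        Cfsg.classInner ((ψ : G → ℂ) * (χ : G → ℂ)) (χ' : G → ℂ) = d := fun ψ =>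
      classInner_character_irr
        (isCharacter_mul (isCharacter_of_isIrr ψ.2) (isCharacter_of_isIrr χ.2)) χ'.2
    choose d hd using hd
    have hcψ : ∀ ψ : Cfsg.IrrCharacter G,
        (c ψ : ℂ) = conj (Cfsg.classInner (fun n : N => (ψ : G → ℂ) n) (fun _ => 1)) := by
      intro ψ
      have h2 : Cfsg.classInner (Cfsg.indFun N (fun _ => 1)) (ψ : G → ℂ) = (c ψ : ℂ) := by
        rw [hc]; exact classInner_irr_coeff (fun ψ => (c ψ : ℂ)) ψ
      rw [← h2, classInner_indFun N _ (isClassFunction_of_isIrr ψ.2), classInner_conj_symm]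
    have hsum : m χ * m χ' * o = ∑ ψ : Cfsg.IrrCharacter G, c ψ * d ψ := by
      apply Nat.cast_injective (R := ℂ)
      push_cast
      have h1 : Cfsg.classInner (Cfsg.indFun N (fun n : N => (1 : ℂ) * (χ : G → ℂ) n)) (χ' : G → ℂ)
          = ∑ ψ : Cfsg.IrrCharacter G, (c ψ : ℂ) * (d ψ : ℂ) := by
        rw [indFun_mul N (fun _ => 1) (isClassFunction_of_isIrr χ.2), hc]
        have : (∑ ψ : Cfsg.IrrCharacter G, (c ψ : ℂ) • (ψ : G → ℂ)) * (χ : G → ℂ) =
            ∑ ψ : Cfsg.IrrCharacter G, (c ψ : ℂ) • ((ψ : G → ℂ) * (χ : G → ℂ)) := by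
          rw [Finset.sum_mul]; exact Finset.sum_congr rfl fun ψ _ => smul_mul_assoc _ _ _
        rw [show (fun g => (∑ χ : Cfsg.IrrCharacter G, (c χ : ℂ) • (χ : G → ℂ)) g * (χ : G → ℂ) g) =
          (∑ ψ : Cfsg.IrrCharacter G, (c ψ : ℂ) • (ψ : G → ℂ)) * (χ : G → ℂ) from rfl, this,
          classInner_sum_left]
        exact Finset.sum_congr rfl fun ψ _ => by rw [classInner_smul_left, hd]
      rw [← h1, classInner_indFun N _ (isClassFunction_of_isIrr χ'.2)]
      simp only [one_mul]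
      rw [restrict_eq_orbit_sum N χ.2 hθ h, restrict_eq_orbit_sum N χ'.2 hθ h',
        classInner_smul_left, classInner_smul_right, classInner_sum_left,
        Finset.sum_congr rfl (g := fun _ => (1 : ℂ)) fun φ hφ => ?_, Finset.sum_const,
        nsmul_eq_mul, mul_one]
      · rw [show Cfsg.classInner (fun n : N => (χ : G → ℂ) n) θ = (m χ : ℂ) from hm χ,
          show Cfsg.classInner (fun n : N => (χ' : G → ℂ) n) θ = (m χ' : ℂ) from hm χ',
          Complex.conj_natCast]
        ring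
      · rw [classInner_sum_right, Finset.sum_eq_single φ (fun ψ hψ hne => ?_) (fun h => absurd hφ h)]
        · obtain ⟨g, rfl⟩ := (mem_orbit N).1 hφ
          exact classInner_isIrr_self (isIrr_conjBy N hθ g)
        · obtain ⟨g, rfl⟩ := (mem_orbit N).1 hφ
          obtain ⟨g', rfl⟩ := (mem_orbit N).1 hψ
          exact classInner_isIrr_ne (isIrr_conjBy N hθ g) (isIrr_conjBy N hθ g') (Ne.symm hne)
    have hcd : ∀ ψ, c (galPerm hk ψ) * d (galPerm hk ψ) = c ψ * d ψ := by
      intro ψ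
      have e1 : c (galPerm hk ψ) = c ψ := by
        apply Nat.cast_injective (R := ℂ)
        rw [hcψ, hcψ]
        congr 1
        exact mult_galPerm N hk (θ := fun _ => 1) (fun _ => rfl) ψ
      have e2 : d (galPerm hk ψ) = d ψ := by
        apply Nat.cast_injective (R := ℂ)
        rw [← hd, ← hd]
        conv_lhs => rw [← hf, ← hf']
        exact classInner_pow hk.symm ((ψ : G → ℂ) * (χ : G → ℂ)) (χ' : G → ℂ)
      rw [e1, e2]
    have hfix := sum_eq_sum_fixed_mod_two hk hke (fun ψ => ((c ψ * d ψ : ℕ) : ZMod 2))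
      (fun ψ => by simp only [hcd])
    rw [← Nat.cast_sum, ← hsum] at hfix
    rw [hfix, Finset.sum_eq_single one (fun ψ hψ hne => ?_) (fun hn => ?_)]
    · have hc1 : c one = 1 := by
        apply Nat.cast_injective (R := ℂ)
        rw [hcψ, Nat.cast_one]
        show conj (Cfsg.classInner (fun _ : N => (1 : ℂ)) fun _ => 1) = 1
        rw [classInner_isIrr_self isIrr_one, map_one]
      have hd1 : d one = if χ = χ' then 1 else 0 := by
        apply Nat.cast_injective (R := ℂ)
        rw [← hd, show ((one : G → ℂ) * (χ : G → ℂ)) = (χ : G → ℂ) from funext fun _ => one_mul _,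
          classInner_irr]
        split_ifs <;> simp
      rw [hc1, hd1, one_mul]
      split_ifs <;> simp
    · rcases eq_or_ne (c ψ) 0 with h0 | h0
      · simp [h0]
      · exfalso
        apply hne
        refine Subtype.ext ?_
        have hne1 : Cfsg.classInner (fun n : N => (ψ : G → ℂ) n) (fun _ => 1) ≠ 0 := fun he => h0
          (Nat.cast_injective (R := ℂ) (by rw [hcψ, he, map_zero, Nat.cast_zero]))
        have hinv1 : ∀ g, conjBy N (fun _ => (1 : ℂ)) g = fun _ => 1 := fun g => rfl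
        obtain ⟨r, -, hr, -⟩ := restrict_eq_smul N ψ.2 isIrr_one hinv1 hne1
        refine eq_one_of_fixed_trivial_on N hk hidx hk₂ ψ (Finset.mem_filter.1 hψ).2 fun n hn => ?_
        exact (congrFun hr ⟨n, hn⟩).trans (congrFun hr 1).symm
    · refine absurd ?_ hn
      rw [Finset.mem_filter]
      refine ⟨Finset.mem_univ _, Subtype.ext (funext fun g => ?_)⟩
      rw [galPerm_apply]
  have hodd : ∀ χ, mult N θ χ ≠ 0 → galPerm hk χ = χ → Odd (m χ) := by
    intro χ h hf
    have := key χ χ h hf h hf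
    rw [if_pos rfl, ZMod.natCast_eq_one_iff_odd] at this
    exact (Nat.odd_mul.1 (Nat.odd_mul.1 this).1).1
  have := key χ χ' h hf h' hf'
  by_contra hne
  rw [if_neg hne, ZMod.natCast_eq_zero_iff_even] at this
  exact Nat.not_even_iff_odd.2 (((hodd χ h hf).mul (hodd χ' h' hf')).mul hoodd) this

end CfsgLib.OddIndexGalois
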